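import Groth.Agent.GradAdjoin.Basic
import Mathlib.RingTheory.GradedAlgebra.FiniteType
import Mathlib.RingTheory.Noetherian.Basic
import Mathlib.Algebra.Algebra.Operations
/-!
Monomials in homogeneous generators: eventual periodicity and Veronese subrings.
-/
set_option autoImplicit false
set_option linter.style.haveILetI false
universe u
open DirectSum

noncomputable section

namespace Groth.Agent.GradVero

variable {R A : Type u} [CommRing R] [CommRing A] [Algebra R A] (𝒜 : ℕ → Submodule R A)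
  [GradedAlgebra 𝒜]

/-- Homogeneous generators with their degrees. -/
structure Gens where
  s : Finset A
  dg : s → ℕ
  pos : ∀ e, 0 < dg e
  mem : ∀ e : s, (e : A) ∈ 𝒜 (dg e)
  top : Algebra.adjoin (𝒜 0) (s : Set A) = ⊤

theorem nonempty_gens [Algebra.FiniteType (𝒜 0) A] : Nonempty (Gens 𝒜) := by
  obtain ⟨s, hs, h⟩ := GradedAlgebra.exists_finset_adjoin_eq_top_and_homogeneous_ne_zero 𝒜
  choose n hn0 hn using h
  exact ⟨⟨s, fun e => n e.1 e.2, fun e => Nat.pos_of_ne_zero (hn0 _ _), fun e => hn _ _, hs⟩⟩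

variable {𝒜} (G : Gens 𝒜)

/-- Monomials. -/
def mon (k : G.s → ℕ) : A := ∏ e : G.s, (e : A) ^ k e

/-- Degree of a monomial. -/
def deg (k : G.s → ℕ) : ℕ := ∑ e, k e * G.dg e

lemma mon_mem (k : G.s → ℕ) : mon G k ∈ 𝒜 (deg G k) :=
  SetLike.prod_pow_mem_graded 𝒜 G.dg (fun e : G.s => (e : A)) k fun e _ => G.mem e

lemma mon_add (k l : G.s → ℕ) : mon G (k + l) = mon G k * mon G l := by
  simp [mon, pow_add, Finset.prod_mul_distrib]

lemma deg_add (k l : G.s → ℕ) : deg G (k + l) = deg G k + deg G l := by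
  simp [deg, add_mul, Finset.sum_add_distrib]

theorem induction_mon {P : A → Prop} (zero : P 0) (add : ∀ x y, P x → P y → P (x + y))
    (mon : ∀ (k : G.s → ℕ), ∀ c ∈ 𝒜 0, P (c * mon G k)) (a : A) : P a := by
  have ha : a ∈ Subalgebra.toSubmodule (Algebra.adjoin (𝒜 0) (G.s : Set A)) := by
    rw [G.top]; exact trivial
  rw [Algebra.adjoin_eq_span] at ha
  have : ∀ c ∈ 𝒜 0, P (c * a) := by
    induction ha using Submodule.span_induction with
    | mem x hx =>
      obtain ⟨k, rfl⟩ := Submonoid.mem_closure_finset'.1 hx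
      exact mon k
    | zero => intro c _; rw [mul_zero]; exact zero
    | add x y _ _ hx hy => intro c hc; rw [mul_add]; exact add _ _ (hx c hc) (hy c hc)
    | smul r x _ hx =>
      intro c hc
      rw [Algebra.smul_def, ← mul_assoc]
      exact hx _ (by simpa using SetLike.mul_mem_graded hc r.2)
  simpa using this 1 (SetLike.one_mem_graded 𝒜)

/-- A common multiple of the degrees of the generators. -/
def lcmDeg : ℕ := Finset.univ.lcm G.dg

lemma lcmDeg_pos : 0 < lcmDeg G := by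
  refine Nat.pos_of_ne_zero fun h => ?_
  obtain ⟨e, -, he⟩ := Finset.lcm_eq_zero_iff.1 h
  exact (G.pos e).ne' he

/-- In high degree every monomial is divisible by one of degree `lcmDeg`. -/
theorem exists_factor (k : G.s → ℕ) (h : (Fintype.card G.s) * lcmDeg G ≤ deg G k)
    (h1 : 0 < deg G k) :
    ∃ l r : G.s → ℕ, k = l + r ∧ deg G l = lcmDeg G := by
  classical
  obtain ⟨e, he⟩ : ∃ e, lcmDeg G ≤ k e * G.dg e := by
    by_contra hc
    push Not at hc
    rcases isEmpty_or_nonempty G.s with hE | hE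
    · simp [deg] at h1
    · have h2 : deg G k ≤ ∑ _e : G.s, (lcmDeg G - 1) :=
        Finset.sum_le_sum fun e _ => Nat.le_sub_one_of_lt (hc e)
      simp only [Finset.sum_const, Finset.card_univ, smul_eq_mul] at h2
      have h3 : Fintype.card G.s * (lcmDeg G - 1) + Fintype.card G.s = Fintype.card G.s * lcmDeg G := by
        rw [← Nat.mul_succ, Nat.succ_eq_add_one, Nat.sub_add_cancel (lcmDeg_pos G)]
      have h4 : 0 < Fintype.card G.s := Fintype.card_pos
      omega
  obtain ⟨q, hq⟩ : G.dg e ∣ lcmDeg G := Finset.dvd_lcm (Finset.mem_univ e)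
  have hqk : q ≤ k e := Nat.le_of_mul_le_mul_left (by rw [← hq, mul_comm (G.dg e)]; exact he) (G.pos e)
  refine ⟨Pi.single e q, k - Pi.single e q, ?_, ?_⟩
  · funext x
    rcases eq_or_ne x e with rfl | hne
    · simp only [Pi.add_apply, Pi.sub_apply, Pi.single_eq_same]; omega
    · simp [Pi.single_eq_of_ne hne]
  · rw [deg, Finset.sum_eq_single e (fun x _ hx => by simp [Pi.single_eq_of_ne hx]) (by simp),
      Pi.single_eq_same, hq, mul_comm]

section Module

variable (𝒜) {M : Type u} [AddCommGroup M] [Module R M] [Module A M] [IsScalarTower R A M]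
  (ℳ : ℕ → Submodule R M) [DirectSum.Decomposition ℳ] [SetLike.GradedSMul 𝒜 ℳ]

lemma smul_le (i j : ℕ) : (𝒜 i : Submodule R A) • (ℳ j : Submodule R M) ≤ ℳ (i + j) :=
  Submodule.smul_le.2 fun a ha m hm => by simpa using SetLike.GradedSMul.smul_mem ha hm

/-- Eventual periodicity for a finite graded module. -/
theorem exists_period [Algebra.FiniteType (𝒜 0) A] [Module.Finite A M] :
    ∃ (n₁ h : ℕ), 0 < h ∧ ∀ n, n₁ ≤ n → ℳ (n + h) = (𝒜 h : Submodule R A) • (ℳ n : Submodule R M) := by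
  classical
  obtain ⟨G⟩ := nonempty_gens 𝒜
  obtain ⟨S, hS⟩ := Module.Finite.fg_top (R := A) (M := M)
  let U : Finset (ℕ × M) := S.biUnion fun s => (decompose ℳ s).support.image fun i => (i, (decompose ℳ s i : M))
  have hU : ∀ p ∈ U, p.2 ∈ ℳ p.1 := fun p hp => by
    simp only [U, Finset.mem_biUnion, Finset.mem_image] at hp
    obtain ⟨s, -, i, -, rfl⟩ := hp
    exact SetLike.coe_mem _
  refine ⟨U.sup Prod.fst + Fintype.card G.s * lcmDeg G, lcmDeg G, lcmDeg_pos G, fun n hn =>
    le_antisymm ?_ (add_comm n _ ▸ smul_le 𝒜 ℳ _ _)⟩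
  intro y hy
  have key : ∀ z : M, (decompose ℳ z (n + lcmDeg G) : M) ∈ (𝒜 (lcmDeg G) : Submodule R A) • (ℳ n : Submodule R M) := by
    intro z
    have hz : z ∈ Submodule.span A (U.image Prod.snd : Set M) := by
      refine (show (⊤ : Submodule A M) ≤ _ from ?_) trivial
      rw [← hS, Submodule.span_le]
      intro s hs
      rw [← sum_support_decompose ℳ s]
      refine Submodule.sum_mem _ fun i hi => Submodule.subset_span ?_
      simp only [Finset.coe_image, Set.mem_image, Finset.mem_coe]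
      exact ⟨(i, _), Finset.mem_biUnion.2 ⟨s, hs, Finset.mem_image.2 ⟨i, hi, rfl⟩⟩, rfl⟩
    obtain ⟨f, -, rfl⟩ := Submodule.mem_span_finset.1 hz
    rw [decompose_sum, DFinsupp.finset_sum_apply, AddSubmonoidClass.coe_finset_sum]
    refine Submodule.sum_mem _ fun x hx => ?_
    obtain ⟨p, hp, rfl⟩ := Finset.mem_image.1 hx
    refine induction_mon G (P := fun a => (decompose ℳ (a • p.2) (n + lcmDeg G) : M) ∈
      (𝒜 (lcmDeg G) : Submodule R A) • (ℳ n : Submodule R M)) ?_ ?_ ?_ _
    · simp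
    · intro a b ha hb; rw [add_smul, decompose_add, DFinsupp.add_apply, AddMemClass.coe_add]
      exact add_mem ha hb
    · intro k c hc
      have hm : (c * mon G k) • p.2 ∈ ℳ (deg G k + p.1) := by
        have := SetLike.GradedSMul.smul_mem (SetLike.mul_mem_graded hc (mon_mem G k)) (hU p hp)
        simpa using this
      by_cases hd : deg G k + p.1 = n + lcmDeg G
      · rw [← hd, decompose_of_mem_same ℳ hm]
        have hp1 : p.1 ≤ U.sup Prod.fst := Finset.le_sup hp
        have hpos := lcmDeg_pos G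
        obtain ⟨l, r, rfl, hl⟩ := exists_factor G k (by omega) (by omega)
        rw [mon_add, mul_left_comm, mul_smul]
        refine Submodule.smul_mem_smul (hl ▸ mon_mem G l) ?_
        have := SetLike.GradedSMul.smul_mem (SetLike.mul_mem_graded hc (mon_mem G r)) (hU p hp)
        rw [deg_add] at hd
        simpa [show deg G r + p.1 = n by omega] using this
      · rw [decompose_of_mem_ne ℳ hm hd]; exact zero_mem _
  simpa [decompose_of_mem_same ℳ hy] using key y

end Module

variable (𝒜)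

theorem exists_pow_degree [Algebra.FiniteType (𝒜 0) A] :
    ∃ h : ℕ, 0 < h ∧ ∀ m : ℕ, 0 < m → 𝒜 (m * h) = (𝒜 h : Submodule R A) ^ m := by
  obtain ⟨n₁, L, hL, hper⟩ := exists_period 𝒜 𝒜
  have hstep : ∀ j n, n₁ ≤ n → 𝒜 (n + (j + 1) * L) ≤ 𝒜 ((j + 1) * L) * 𝒜 n := by
    intro j
    induction j with
    | zero => intro n hn; rw [zero_add, one_mul, hper n hn]; exact le_rfl
    | succ j ih =>
      intro n hn
      rw [show n + (j + 1 + 1) * L = n + (j + 1) * L + L by ring, hper _ (by omega)]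
      refine (mul_le_mul' le_rfl (ih n hn)).trans ?_
      rw [← mul_assoc]
      refine mul_le_mul' (Submodule.mul_le.2 fun a ha b hb => ?_) le_rfl
      rw [show (j + 1 + 1) * L = L + (j + 1) * L by ring]
      exact SetLike.mul_mem_graded ha hb
  refine ⟨(n₁ + 1) * L, Nat.mul_pos n₁.succ_pos hL, fun m hm => ?_⟩
  induction m, hm using Nat.le_induction with
  | base => simp
  | succ m hm ih =>
    refine le_antisymm ?_ ?_
    · rw [pow_succ', ← ih, show (m + 1) * ((n₁ + 1) * L) = m * ((n₁ + 1) * L) + (n₁ + 1) * L by ring]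
      refine hstep n₁ _ ?_
      calc n₁ ≤ 1 * ((n₁ + 1) * L) := by nlinarith
        _ ≤ m * ((n₁ + 1) * L) := Nat.mul_le_mul_right _ hm
    · rw [pow_succ', ← ih, show (m + 1) * ((n₁ + 1) * L) = (n₁ + 1) * L + m * ((n₁ + 1) * L) by ring]
      exact Submodule.mul_le.2 fun a ha b hb => SetLike.mul_mem_graded ha hb

variable {B : Type u} [CommRing B] [Algebra R B] (ℬ : ℕ → Submodule R B) [GradedAlgebra ℬ]
  (d : ℕ) (φ : B →ₐ[R] A) (hφ : Function.Injective φ)
  (hdeg : ∀ n : ℕ, Submodule.map φ.toLinearMap (ℬ n) = 𝒜 (n * d))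

include hdeg hφ

theorem finiteType_veronese (hd : 0 < d) [Algebra.FiniteType (𝒜 0) A] :
    Algebra.FiniteType (ℬ 0) B := by
  classical
  obtain ⟨G⟩ := nonempty_gens 𝒜
  let F : Finset A := Finset.univ.image (fun e : G.s => (e : A) ^ d) ∪
    (Finset.univ.filter fun r : G.s → Fin d => d ∣ deg G fun e => (r e : ℕ)).image
      fun r => mon G fun e => (r e : ℕ)
  refine ⟨⟨(F.finite_toSet.preimage hφ.injOn).toFinset, ?_⟩⟩
  rw [Set.Finite.coe_toFinset, eq_top_iff]
  let L := Algebra.adjoin (ℬ 0) (φ ⁻¹' (F : Set A))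
  let I : Subring A := L.toSubring.map φ.toRingHom
  have hlift : ∀ {n : ℕ} {a : A}, a ∈ 𝒜 (n * d) → ∃ b ∈ ℬ n, φ b = a := fun ha => by
    rw [← hdeg] at ha
    obtain ⟨b, hb, h⟩ := ha
    exact ⟨b, hb, h⟩
  have hF : ∀ {n : ℕ} {a : A}, a ∈ F → a ∈ 𝒜 (n * d) → a ∈ I := fun haF ha => by
    obtain ⟨b, -, rfl⟩ := hlift ha
    exact ⟨b, Algebra.subset_adjoin haF, rfl⟩
  have h0 : ∀ c ∈ 𝒜 0, c ∈ I := fun c hc => by
    obtain ⟨b, hb, rfl⟩ := hlift (n := 0) (by rwa [zero_mul])
    exact ⟨b, GradAdjoin.zero_mem_adjoin ℬ _ hb, rfl⟩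
  have hmon : ∀ k : G.s → ℕ, d ∣ deg G k → mon G k ∈ I := by
    intro k hk
    let r : G.s → Fin d := fun e => ⟨k e % d, Nat.mod_lt _ hd⟩
    have hk' : k = (fun e => d * (k e / d)) + fun e => (r e : ℕ) := funext fun e => (Nat.div_add_mod _ _).symm
    have hd1 : d ∣ deg G fun e => d * (k e / d) :=
      Finset.dvd_sum fun e _ => Dvd.dvd.mul_right (dvd_mul_right d _) _
    have hr : d ∣ deg G fun e => (r e : ℕ) := by
      rw [hk', deg_add] at hk
      exact (Nat.dvd_add_right hd1).1 hk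
    rw [hk', mon_add]
    refine mul_mem (Subring.prod_mem _ fun e _ => ?_) ?_
    · rw [pow_mul]
      refine pow_mem (hF (n := G.dg e) (Finset.mem_union_left _ (Finset.mem_image.2 ⟨e, Finset.mem_univ _, rfl⟩)) ?_) _
      rw [mul_comm, ← smul_eq_mul]
      exact SetLike.pow_mem_graded d (G.mem e)
    · obtain ⟨n, hn⟩ := hr
      refine hF (n := n) (Finset.mem_union_right _ (Finset.mem_image.2
        ⟨r, Finset.mem_filter.2 ⟨Finset.mem_univ _, ⟨n, hn⟩⟩, rfl⟩)) ?_
      rw [mul_comm, ← hn]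
      exact mon_mem G _
  have hall : ∀ (a : A) (n : ℕ), (decompose 𝒜 a (n * d) : A) ∈ I := by
    intro a n
    refine induction_mon G (P := fun a => (decompose 𝒜 a (n * d) : A) ∈ I) ?_ ?_ ?_ a
    · simp
    · intro x y hx hy; simpa using add_mem hx hy
    · intro k c hc
      have hm : c * mon G k ∈ 𝒜 (deg G k) := by simpa using SetLike.mul_mem_graded hc (mon_mem G k)
      by_cases h : deg G k = n * d
      · rw [← h, decompose_of_mem_same 𝒜 hm]; exact mul_mem (h0 c hc) (hmon k ⟨n, by rw [h, mul_comm]⟩)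
      · rw [decompose_of_mem_ne 𝒜 hm h]; exact zero_mem _
  intro b _
  rw [← sum_support_decompose ℬ b]
  refine sum_mem fun n _ => ?_
  have hb : φ (decompose ℬ b n : B) ∈ 𝒜 (n * d) := hdeg n ▸ ⟨_, SetLike.coe_mem _, rfl⟩
  obtain ⟨b', hb', e⟩ : φ (decompose ℬ b n : B) ∈ I := by
    have := hall (φ (decompose ℬ b n : B)) n
    rwa [decompose_of_mem_same 𝒜 hb] at this
  exact (hφ e) ▸ hb'

theorem isNoetherian_veronese (hd : 0 < d) [IsNoetherianRing A] : IsNoetherianRing B := by
  haveI := (GradAdjoin.isNoetherian_iff 𝒜).1 inferInstance |>.2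
  haveI := finiteType_veronese 𝒜 ℬ d φ hφ hdeg hd
  have hz : ∀ x : ℬ 0, φ x ∈ 𝒜 0 := fun x => by
    have : φ x ∈ 𝒜 (0 * d) := hdeg 0 ▸ ⟨_, x.2, rfl⟩
    rwa [zero_mul] at this
  let f : ℬ 0 →+* 𝒜 0 :=
    { toFun := fun x => ⟨φ x, hz x⟩
      map_one' := Subtype.ext (by simp)
      map_zero' := Subtype.ext (by simp)
      map_add' := fun x y => Subtype.ext (by simp)
      map_mul' := fun x y => Subtype.ext (by simp) }
  have hf : Function.Bijective f := by
    refine ⟨fun x y h => Subtype.ext (hφ (congrArg Subtype.val h)), fun a => ?_⟩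
    have ha : (a : A) ∈ 𝒜 (0 * d) := by rw [zero_mul]; exact a.2
    rw [← hdeg] at ha
    obtain ⟨b, hb, h⟩ := ha
    exact ⟨⟨b, hb⟩, Subtype.ext h⟩
  haveI : IsNoetherianRing (𝒜 0) := (GradAdjoin.isNoetherian_iff 𝒜).1 inferInstance |>.1
  haveI : IsNoetherianRing (ℬ 0) := isNoetherianRing_of_ringEquiv (𝒜 0) (RingEquiv.ofBijective f hf).symm
  exact Algebra.FiniteType.isNoetherianRing (ℬ 0) B

end Groth.Agent.GradVero
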